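import Mathlib
import Cfsg.Prelude.Def_Spor_Suz

/-! Auxiliary presentations on sub-diagrams of the presentation of Suz (generated). -/

set_option autoImplicit false

namespace Cfsg.Agent.Helper28.SZ

namespace Q1

/-- the generators -/
inductive Gen
  | a
  | b
  | c
  | d
  | e
  | f
  deriving DecidableEq

/-- a generator as a word -/
abbrev a : FreeGroup Gen := FreeGroup.of Gen.a
/-- a generator as a word -/
abbrev b : FreeGroup Gen := FreeGroup.of Gen.b
/-- a generator as a word -/
abbrev c : FreeGroup Gen := FreeGroup.of Gen.c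
/-- a generator as a word -/
abbrev d : FreeGroup Gen := FreeGroup.of Gen.d
/-- a generator as a word -/
abbrev e : FreeGroup Gen := FreeGroup.of Gen.e
/-- a generator as a word -/
abbrev f : FreeGroup Gen := FreeGroup.of Gen.f

/-- the Coxeter graph -/
def edges : List (Gen × ℕ × Gen) :=
  [(.a, 5, .b), (.b, 3, .c), (.c, 8, .d), (.d, 3, .e), (.b, 3, .f)]

/-- the further relators -/
def extra : List (FreeGroup Gen) := [a * ((c * d) ^ 4)⁻¹,
  (a * b * c * f) ^ 5,
  ((b * c * d * c * d) ^ 5 * e) ^ 3]

/-- the inclusion of the generators -/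
def inc : Gen → Cfsg.Spor.Suz.Gen
  | .a => .a
  | .b => .b
  | .c => .c
  | .d => .d
  | .e => .e
  | .f => .f

end Q1

namespace Q2

/-- the generators -/
inductive Gen
  | a
  | b
  | c
  | d
  | e
  deriving DecidableEq

/-- a generator as a word -/
abbrev a : FreeGroup Gen := FreeGroup.of Gen.a
/-- a generator as a word -/
abbrev b : FreeGroup Gen := FreeGroup.of Gen.b
/-- a generator as a word -/
abbrev c : FreeGroup Gen := FreeGroup.of Gen.c
/-- a generator as a word -/
abbrev d : FreeGroup Gen := FreeGroup.of Gen.d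
/-- a generator as a word -/
abbrev e : FreeGroup Gen := FreeGroup.of Gen.e

/-- the Coxeter graph -/
def edges : List (Gen × ℕ × Gen) :=
  [(.a, 5, .b), (.b, 3, .c), (.c, 8, .d), (.d, 3, .e)]

/-- the further relators -/
def extra : List (FreeGroup Gen) := [a * ((c * d) ^ 4)⁻¹,
  ((b * c * d * c * d) ^ 5 * e) ^ 3]

/-- the inclusion of the generators -/
def inc : Gen → Cfsg.Spor.Suz.Gen
  | .a => .a
  | .b => .b
  | .c => .c
  | .d => .d
  | .e => .e

end Q2

namespace Q3

/-- the generators -/
inductive Gen
  | a
  | b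
  | c
  | d
  deriving DecidableEq

/-- a generator as a word -/
abbrev a : FreeGroup Gen := FreeGroup.of Gen.a
/-- a generator as a word -/
abbrev b : FreeGroup Gen := FreeGroup.of Gen.b
/-- a generator as a word -/
abbrev c : FreeGroup Gen := FreeGroup.of Gen.c
/-- a generator as a word -/
abbrev d : FreeGroup Gen := FreeGroup.of Gen.d

/-- the Coxeter graph -/
def edges : List (Gen × ℕ × Gen) :=
  [(.a, 5, .b), (.b, 3, .c), (.c, 8, .d)]

/-- the further relators -/
def extra : List (FreeGroup Gen) := [a * ((c * d) ^ 4)⁻¹]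

/-- the inclusion of the generators -/
def inc : Gen → Cfsg.Spor.Suz.Gen
  | .a => .a
  | .b => .b
  | .c => .c
  | .d => .d

end Q3

end Cfsg.Agent.Helper28.SZ
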