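import Cfsg.Agent.Helper28.Grp2
import Cfsg.Agent.Helper28.SZ.Order
import Cfsg.Agent.Helper28.SZL1.All
import Cfsg.Agent.Helper28.SZL2.All
import Cfsg.Agent.Helper28.SZO.OrbAll

/-!
# The presented group Suz is simple of order 448345497600 (helper28)

Order: a tower of subgroups with coset enumeration certificates bounds the order from above, stabiliser
chains in the permutation representations on 1782 and on 22880 points bound it from below; so both
representations are faithful.  Simplicity: Iwasawa's criterion for the action on the 22880 points, whose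
point stabiliser is maximal (suborbits 1 + 280 + 486 + 8505 + 13608) and normalises the subgroup of
order 3 generated by `(bcdcd)^5`.
-/

set_option autoImplicit false

namespace Cfsg.Agent.Helper28.SZ

open Cfsg.Spor

/-- the point stabiliser of the action on 22880 points -/
noncomputable abbrev H2 : Subgroup Suz :=
  (Subgroup.closure ({Cfsg.Spor.Suz.a, Cfsg.Spor.Suz.b, Cfsg.Spor.Suz.c, Cfsg.Spor.Suz.d, Cfsg.Spor.Suz.f, Cfsg.Spor.Suz.g} : Set (FreeGroup Cfsg.Spor.Suz.Gen))).map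
    (PresentedGroup.mk (Cfsg.Spor.coxRelators Cfsg.Spor.Suz.edges ∪ {r | r ∈ Cfsg.Spor.Suz.extra}))

/-- the element of order 3 -/
noncomputable def z : Suz :=
  PresentedGroup.mk (coxRelators Suz.edges ∪ {r | r ∈ Suz.extra})
    ((Suz.b * Suz.c * Suz.d * Suz.c * Suz.d) ^ 5)

theorem card_inj1 : Nat.card Suz = 448345497600 ∧
    Function.Injective Cfsg.Agent.Helper28.C1680.cert.perm := by
  obtain ⟨hfin, hle⟩ := card_le
  have hlb := Cfsg.Agent.Helper28.SZL1.lb_chain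
  have e1 : 1782 * 1365 * 1024 * 180 = 448345497600 := by norm_num
  have e2 : 1782 * (416 * (280 * (2160))) = 448345497600 := by norm_num
  rw [e1] at hlb
  rw [e2] at hle
  exact Cfsg.Agent.Helper28.C1680.cert.card_inj 448345497600 (by norm_num) _ hfin hle hlb

theorem card_inj2 : Nat.card Suz = 448345497600 ∧
    Function.Injective Cfsg.Agent.Helper28.C1681.cert.perm := by
  obtain ⟨hfin, hle⟩ := card_le
  have hlb := Cfsg.Agent.Helper28.SZL2.lb_chain
  have e1 : 22880 * 13608 * 1440 = 448345497600 := by norm_num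
  have e2 : 1782 * (416 * (280 * (2160))) = 448345497600 := by norm_num
  rw [e1] at hlb
  rw [e2] at hle
  exact Cfsg.Agent.Helper28.C1681.cert.card_inj 448345497600 (by norm_num) _ hfin hle hlb

theorem card_eq : Nat.card Suz = 448345497600 := card_inj1.1

theorem inj1 : Function.Injective Cfsg.Agent.Helper28.C1680.cert.perm := card_inj1.2

theorem inj2 : Function.Injective Cfsg.Agent.Helper28.C1681.cert.perm := card_inj2.2

theorem finite : Finite Suz := card_le.1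

theorem nontrivial : Nontrivial Suz := by
  have := finite
  rw [← Finite.one_lt_card_iff_nontrivial, card_eq]
  norm_num

theorem sq (x : Suz.Gen) : (PresentedGroup.of x : Suz) * PresentedGroup.of x = 1 :=
  cox_sq Suz.edges Suz.extra x (node x)

/-! ### relators -/

theorem rel_a : (PresentedGroup.of Suz.Gen.a : Suz) =
    (PresentedGroup.of Suz.Gen.c * PresentedGroup.of Suz.Gen.d) ^ 4 := by
  have hrel : (PresentedGroup.mk (coxRelators Suz.edges ∪ {r | r ∈ Suz.extra})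
      (Suz.a * ((Suz.c * Suz.d) ^ 4)⁻¹) : Suz) = 1 :=
    PresentedGroup.one_of_mem (Or.inr (by simp [Suz.extra]))
  rw [map_mul, map_inv, map_pow, map_mul] at hrel
  exact mul_inv_eq_one.mp hrel

theorem rel_ze : (z * (PresentedGroup.of Suz.Gen.e : Suz)) ^ 3 = 1 := by
  have hrel : (PresentedGroup.mk (coxRelators Suz.edges ∪ {r | r ∈ Suz.extra})
      (((Suz.b * Suz.c * Suz.d * Suz.c * Suz.d) ^ 5 * Suz.e) ^ 3) : Suz) = 1 :=
    PresentedGroup.one_of_mem (Or.inr (by simp [Suz.extra]))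
  rw [map_pow, map_mul] at hrel
  exact hrel

/-! ### perfect -/

theorem ab_one (x : Suz.Gen) : Abelianization.of (PresentedGroup.of x : Suz) = 1 := by
  have hab := cox_ab_edge_odd Suz.edges Suz.extra Suz.Gen.a Suz.Gen.b (node _) (node _) (by decide)
  have hbc := cox_ab_edge_odd Suz.edges Suz.extra Suz.Gen.b Suz.Gen.c (node _) (node _) (by decide)
  have hbf := cox_ab_edge_odd Suz.edges Suz.extra Suz.Gen.b Suz.Gen.f (node _) (node _) (by decide)
  have hbg := cox_ab_edge_odd Suz.edges Suz.extra Suz.Gen.b Suz.Gen.g (node _) (node _) (by decide)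
  have hde := cox_ab_edge_odd Suz.edges Suz.extra Suz.Gen.d Suz.Gen.e (node _) (node _) (by decide)
  have sc := cox_ab_sq Suz.edges Suz.extra Suz.Gen.c (node _)
  have sd := cox_ab_sq Suz.edges Suz.extra Suz.Gen.d (node _)
  have se := cox_ab_sq Suz.edges Suz.extra Suz.Gen.e (node _)
  -- a = (c d)^4
  have ha : Abelianization.of (PresentedGroup.of Suz.Gen.a : Suz) = 1 := by
    rw [rel_a, map_pow, map_mul, mul_pow]
    rw [pow_four_of_sq _ sc, pow_four_of_sq _ sd, one_mul]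
  have hb : Abelianization.of (PresentedGroup.of Suz.Gen.b : Suz) = 1 := by rw [← hab, ha]
  have hc : Abelianization.of (PresentedGroup.of Suz.Gen.c : Suz) = 1 := by rw [← hbc, hb]
  have hf : Abelianization.of (PresentedGroup.of Suz.Gen.f : Suz) = 1 := by rw [← hbf, hb]
  have hg : Abelianization.of (PresentedGroup.of Suz.Gen.g : Suz) = 1 := by rw [← hbg, hb]
  -- ((b c d c d)^5 e)^3 = 1
  have he : Abelianization.of (PresentedGroup.of Suz.Gen.e : Suz) = 1 := by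
    have h := congrArg (Abelianization.of : Suz →* Abelianization Suz) rel_ze
    rw [map_pow, map_mul, map_one] at h
    have hz : Abelianization.of z = 1 := by
      have h' : Abelianization.of z =
          (Abelianization.of (PresentedGroup.of Suz.Gen.b : Suz) *
            Abelianization.of (PresentedGroup.of Suz.Gen.c : Suz) *
            Abelianization.of (PresentedGroup.of Suz.Gen.d : Suz) *
            Abelianization.of (PresentedGroup.of Suz.Gen.c : Suz) *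
            Abelianization.of (PresentedGroup.of Suz.Gen.d : Suz)) ^ 5 := by
        unfold z
        rw [map_pow, map_mul, map_mul, map_mul, map_mul, map_pow, map_mul, map_mul, map_mul, map_mul]
        rfl
      rw [h', hb, hc]
      simp only [one_mul, mul_one]
      rw [sd, one_pow]
    rw [hz, one_mul] at h
    exact eq_one_of_sq_of_pow_odd _ se 3 (by decide) h
  have hd : Abelianization.of (PresentedGroup.of Suz.Gen.d : Suz) = 1 := by rw [hde, he]
  cases x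
  · exact ha
  · exact hb
  · exact hc
  · exact hd
  · exact he
  · exact hf
  · exact hg

theorem perfect : commutator Suz = ⊤ :=
  commutator_eq_top_of_gens _ ab_one

/-! ### the normal closure of `z` -/

theorem normalClosure_z : Subgroup.normalClosure ({z} : Set Suz) = ⊤ := by
  have hN : (Subgroup.normalClosure ({z} : Set Suz)).Normal := Subgroup.normalClosure_normal
  have hz : z ∈ Subgroup.normalClosure ({z} : Set Suz) :=
    Subgroup.subset_normalClosure (Set.mem_singleton _)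
  have he : (PresentedGroup.of Suz.Gen.e : Suz) ∈ Subgroup.normalClosure ({z} : Set Suz) :=
    mem_of_rel_odd _ hN _ _ hz (sq _) 3 (by decide) rel_ze
  have hd := cox_normal_edge_odd Suz.edges Suz.extra _ hN Suz.Gen.e Suz.Gen.d (node _) (node _) (by decide) he
  have ha : (PresentedGroup.of Suz.Gen.a : Suz) ∈ Subgroup.normalClosure ({z} : Set Suz) := by
    rw [← QuotientGroup.eq_one_iff, rel_a, QuotientGroup.mk_pow, QuotientGroup.mk_mul,
      (QuotientGroup.eq_one_iff _).mpr hd, mul_one, ← QuotientGroup.mk_pow]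
    have : (PresentedGroup.of Suz.Gen.c : Suz) ^ 4 = 1 := pow_four_of_sq _ (sq _)
    rw [this]; rfl
  have hb := cox_normal_edge_odd Suz.edges Suz.extra _ hN Suz.Gen.a Suz.Gen.b (node _) (node _) (by decide) ha
  have hc := cox_normal_edge_odd Suz.edges Suz.extra _ hN Suz.Gen.b Suz.Gen.c (node _) (node _) (by decide) hb
  have hf := cox_normal_edge_odd Suz.edges Suz.extra _ hN Suz.Gen.b Suz.Gen.f (node _) (node _) (by decide) hb
  have hg := cox_normal_edge_odd Suz.edges Suz.extra _ hN Suz.Gen.b Suz.Gen.g (node _) (node _) (by decide) hb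
  rw [eq_top_iff, ← PresentedGroup.closure_range_of]
  apply (Subgroup.closure_le _).mpr
  rintro _ ⟨x, rfl⟩
  cases x
  · exact ha
  · exact hb
  · exact hc
  · exact hd
  · exact he
  · exact hf
  · exact hg

/-! ### the point stabiliser normalises the subgroup generated by `z` -/

set_option maxRecDepth 100000 in
theorem wl_a : Cfsg.Agent.Helper28.WordOf Cfsg.Agent.Helper28.C1680.gen
    (Cfsg.Spor.Suz.a * (Cfsg.Spor.Suz.b * Cfsg.Spor.Suz.c * Cfsg.Spor.Suz.d * Cfsg.Spor.Suz.c * Cfsg.Spor.Suz.d) ^ 5 * Cfsg.Spor.Suz.a)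
    [0, 1, 2, 3, 2, 3, 1, 2, 3, 2, 3, 1, 2, 3, 2, 3, 1, 2, 3, 2, 3, 1, 2, 3, 2, 3, 0] := by
  intro K _ v hv
  simp only [map_mul, map_pow, map_inv, FreeGroup.lift_apply_of, mul_inv_rev, inv_pow,
    Cfsg.Agent.Helper28.inv_of_sq _ (hv _), List.map_cons, List.map_nil, List.prod_cons, List.prod_nil,
    Cfsg.Agent.Helper28.C1680.gen, pow_succ, pow_zero, one_mul, mul_one, mul_assoc]

set_option maxRecDepth 100000 in
theorem wr_a : Cfsg.Agent.Helper28.WordOf Cfsg.Agent.Helper28.C1680.gen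
    ((Cfsg.Spor.Suz.b * Cfsg.Spor.Suz.c * Cfsg.Spor.Suz.d * Cfsg.Spor.Suz.c * Cfsg.Spor.Suz.d) ^ 5)
    [1, 2, 3, 2, 3, 1, 2, 3, 2, 3, 1, 2, 3, 2, 3, 1, 2, 3, 2, 3, 1, 2, 3, 2, 3] := by
  intro K _ v hv
  simp only [map_mul, map_pow, map_inv, FreeGroup.lift_apply_of, mul_inv_rev, inv_pow,
    Cfsg.Agent.Helper28.inv_of_sq _ (hv _), List.map_cons, List.map_nil, List.prod_cons, List.prod_nil,
    Cfsg.Agent.Helper28.C1680.gen, pow_succ, pow_zero, one_mul, mul_one, mul_assoc]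

theorem conj_a : (PresentedGroup.of Suz.Gen.a : Suz) * z * PresentedGroup.of Suz.Gen.a = z := by
  have h := Cfsg.Agent.Helper28.C1680.cert.word_eq inj1
    Cfsg.Agent.Helper28.SZL1.z0_l Cfsg.Agent.Helper28.SZL1.z0_r
    Cfsg.Agent.Helper28.SZL1.eq_z0_let.1 Cfsg.Agent.Helper28.SZL1.eq_z0_let.2
    Cfsg.Agent.Helper28.SZL1.eq_z0_all
  have h1 := Cfsg.Agent.Helper28.C1680.cert.wordVal _ _ wl_a Cfsg.Agent.Helper28.SZL1.eq_z0_let.1
  have h2 := Cfsg.Agent.Helper28.C1680.cert.wordVal _ _ wr_a Cfsg.Agent.Helper28.SZL1.eq_z0_let.2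
  have h3 := h1.symm.trans (h.trans h2)
  rw [map_mul, map_mul] at h3
  exact h3

set_option maxRecDepth 100000 in
theorem wl_b : Cfsg.Agent.Helper28.WordOf Cfsg.Agent.Helper28.C1680.gen
    (Cfsg.Spor.Suz.b * (Cfsg.Spor.Suz.b * Cfsg.Spor.Suz.c * Cfsg.Spor.Suz.d * Cfsg.Spor.Suz.c * Cfsg.Spor.Suz.d) ^ 5 * Cfsg.Spor.Suz.b)
    [1, 1, 2, 3, 2, 3, 1, 2, 3, 2, 3, 1, 2, 3, 2, 3, 1, 2, 3, 2, 3, 1, 2, 3, 2, 3, 1] := by
  intro K _ v hv
  simp only [map_mul, map_pow, map_inv, FreeGroup.lift_apply_of, mul_inv_rev, inv_pow,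
    Cfsg.Agent.Helper28.inv_of_sq _ (hv _), List.map_cons, List.map_nil, List.prod_cons, List.prod_nil,
    Cfsg.Agent.Helper28.C1680.gen, pow_succ, pow_zero, one_mul, mul_one, mul_assoc]

set_option maxRecDepth 100000 in
theorem wr_b : Cfsg.Agent.Helper28.WordOf Cfsg.Agent.Helper28.C1680.gen
    ((Cfsg.Spor.Suz.b * Cfsg.Spor.Suz.c * Cfsg.Spor.Suz.d * Cfsg.Spor.Suz.c * Cfsg.Spor.Suz.d) ^ 5)
    [1, 2, 3, 2, 3, 1, 2, 3, 2, 3, 1, 2, 3, 2, 3, 1, 2, 3, 2, 3, 1, 2, 3, 2, 3] := by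
  intro K _ v hv
  simp only [map_mul, map_pow, map_inv, FreeGroup.lift_apply_of, mul_inv_rev, inv_pow,
    Cfsg.Agent.Helper28.inv_of_sq _ (hv _), List.map_cons, List.map_nil, List.prod_cons, List.prod_nil,
    Cfsg.Agent.Helper28.C1680.gen, pow_succ, pow_zero, one_mul, mul_one, mul_assoc]

theorem conj_b : (PresentedGroup.of Suz.Gen.b : Suz) * z * PresentedGroup.of Suz.Gen.b = z := by
  have h := Cfsg.Agent.Helper28.C1680.cert.word_eq inj1
    Cfsg.Agent.Helper28.SZL1.z1_l Cfsg.Agent.Helper28.SZL1.z1_r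
    Cfsg.Agent.Helper28.SZL1.eq_z1_let.1 Cfsg.Agent.Helper28.SZL1.eq_z1_let.2
    Cfsg.Agent.Helper28.SZL1.eq_z1_all
  have h1 := Cfsg.Agent.Helper28.C1680.cert.wordVal _ _ wl_b Cfsg.Agent.Helper28.SZL1.eq_z1_let.1
  have h2 := Cfsg.Agent.Helper28.C1680.cert.wordVal _ _ wr_b Cfsg.Agent.Helper28.SZL1.eq_z1_let.2
  have h3 := h1.symm.trans (h.trans h2)
  rw [map_mul, map_mul] at h3
  exact h3

set_option maxRecDepth 100000 in
theorem wl_c : Cfsg.Agent.Helper28.WordOf Cfsg.Agent.Helper28.C1680.gen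
    (Cfsg.Spor.Suz.c * (Cfsg.Spor.Suz.b * Cfsg.Spor.Suz.c * Cfsg.Spor.Suz.d * Cfsg.Spor.Suz.c * Cfsg.Spor.Suz.d) ^ 5 * Cfsg.Spor.Suz.c)
    [2, 1, 2, 3, 2, 3, 1, 2, 3, 2, 3, 1, 2, 3, 2, 3, 1, 2, 3, 2, 3, 1, 2, 3, 2, 3, 2] := by
  intro K _ v hv
  simp only [map_mul, map_pow, map_inv, FreeGroup.lift_apply_of, mul_inv_rev, inv_pow,
    Cfsg.Agent.Helper28.inv_of_sq _ (hv _), List.map_cons, List.map_nil, List.prod_cons, List.prod_nil,
    Cfsg.Agent.Helper28.C1680.gen, pow_succ, pow_zero, one_mul, mul_one, mul_assoc]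

set_option maxRecDepth 100000 in
theorem wr_c : Cfsg.Agent.Helper28.WordOf Cfsg.Agent.Helper28.C1680.gen
    ((Cfsg.Spor.Suz.b * Cfsg.Spor.Suz.c * Cfsg.Spor.Suz.d * Cfsg.Spor.Suz.c * Cfsg.Spor.Suz.d) ^ 5)
    [1, 2, 3, 2, 3, 1, 2, 3, 2, 3, 1, 2, 3, 2, 3, 1, 2, 3, 2, 3, 1, 2, 3, 2, 3] := by
  intro K _ v hv
  simp only [map_mul, map_pow, map_inv, FreeGroup.lift_apply_of, mul_inv_rev, inv_pow,
    Cfsg.Agent.Helper28.inv_of_sq _ (hv _), List.map_cons, List.map_nil, List.prod_cons, List.prod_nil,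
    Cfsg.Agent.Helper28.C1680.gen, pow_succ, pow_zero, one_mul, mul_one, mul_assoc]

theorem conj_c : (PresentedGroup.of Suz.Gen.c : Suz) * z * PresentedGroup.of Suz.Gen.c = z := by
  have h := Cfsg.Agent.Helper28.C1680.cert.word_eq inj1
    Cfsg.Agent.Helper28.SZL1.z2_l Cfsg.Agent.Helper28.SZL1.z2_r
    Cfsg.Agent.Helper28.SZL1.eq_z2_let.1 Cfsg.Agent.Helper28.SZL1.eq_z2_let.2
    Cfsg.Agent.Helper28.SZL1.eq_z2_all
  have h1 := Cfsg.Agent.Helper28.C1680.cert.wordVal _ _ wl_c Cfsg.Agent.Helper28.SZL1.eq_z2_let.1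
  have h2 := Cfsg.Agent.Helper28.C1680.cert.wordVal _ _ wr_c Cfsg.Agent.Helper28.SZL1.eq_z2_let.2
  have h3 := h1.symm.trans (h.trans h2)
  rw [map_mul, map_mul] at h3
  exact h3

set_option maxRecDepth 100000 in
theorem wl_d : Cfsg.Agent.Helper28.WordOf Cfsg.Agent.Helper28.C1680.gen
    (Cfsg.Spor.Suz.d * (Cfsg.Spor.Suz.b * Cfsg.Spor.Suz.c * Cfsg.Spor.Suz.d * Cfsg.Spor.Suz.c * Cfsg.Spor.Suz.d) ^ 5 * Cfsg.Spor.Suz.d)
    [3, 1, 2, 3, 2, 3, 1, 2, 3, 2, 3, 1, 2, 3, 2, 3, 1, 2, 3, 2, 3, 1, 2, 3, 2, 3, 3] := by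
  intro K _ v hv
  simp only [map_mul, map_pow, map_inv, FreeGroup.lift_apply_of, mul_inv_rev, inv_pow,
    Cfsg.Agent.Helper28.inv_of_sq _ (hv _), List.map_cons, List.map_nil, List.prod_cons, List.prod_nil,
    Cfsg.Agent.Helper28.C1680.gen, pow_succ, pow_zero, one_mul, mul_one, mul_assoc]

set_option maxRecDepth 100000 in
theorem wr_d : Cfsg.Agent.Helper28.WordOf Cfsg.Agent.Helper28.C1680.gen
    (((Cfsg.Spor.Suz.b * Cfsg.Spor.Suz.c * Cfsg.Spor.Suz.d * Cfsg.Spor.Suz.c * Cfsg.Spor.Suz.d) ^ 5)⁻¹)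
    [3, 2, 3, 2, 1, 3, 2, 3, 2, 1, 3, 2, 3, 2, 1, 3, 2, 3, 2, 1, 3, 2, 3, 2, 1] := by
  intro K _ v hv
  simp only [map_mul, map_pow, map_inv, FreeGroup.lift_apply_of, mul_inv_rev, inv_pow,
    Cfsg.Agent.Helper28.inv_of_sq _ (hv _), List.map_cons, List.map_nil, List.prod_cons, List.prod_nil,
    Cfsg.Agent.Helper28.C1680.gen, pow_succ, pow_zero, one_mul, mul_one, mul_assoc]

theorem conj_d : (PresentedGroup.of Suz.Gen.d : Suz) * z * PresentedGroup.of Suz.Gen.d = z⁻¹ := by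
  have h := Cfsg.Agent.Helper28.C1680.cert.word_eq inj1
    Cfsg.Agent.Helper28.SZL1.z3_l Cfsg.Agent.Helper28.SZL1.z3_r
    Cfsg.Agent.Helper28.SZL1.eq_z3_let.1 Cfsg.Agent.Helper28.SZL1.eq_z3_let.2
    Cfsg.Agent.Helper28.SZL1.eq_z3_all
  have h1 := Cfsg.Agent.Helper28.C1680.cert.wordVal _ _ wl_d Cfsg.Agent.Helper28.SZL1.eq_z3_let.1
  have h2 := Cfsg.Agent.Helper28.C1680.cert.wordVal _ _ wr_d Cfsg.Agent.Helper28.SZL1.eq_z3_let.2
  have h3 := h1.symm.trans (h.trans h2)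
  rw [map_mul, map_mul, map_inv] at h3
  exact h3

set_option maxRecDepth 100000 in
theorem wl_f : Cfsg.Agent.Helper28.WordOf Cfsg.Agent.Helper28.C1680.gen
    (Cfsg.Spor.Suz.f * (Cfsg.Spor.Suz.b * Cfsg.Spor.Suz.c * Cfsg.Spor.Suz.d * Cfsg.Spor.Suz.c * Cfsg.Spor.Suz.d) ^ 5 * Cfsg.Spor.Suz.f)
    [5, 1, 2, 3, 2, 3, 1, 2, 3, 2, 3, 1, 2, 3, 2, 3, 1, 2, 3, 2, 3, 1, 2, 3, 2, 3, 5] := by
  intro K _ v hv
  simp only [map_mul, map_pow, map_inv, FreeGroup.lift_apply_of, mul_inv_rev, inv_pow,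
    Cfsg.Agent.Helper28.inv_of_sq _ (hv _), List.map_cons, List.map_nil, List.prod_cons, List.prod_nil,
    Cfsg.Agent.Helper28.C1680.gen, pow_succ, pow_zero, one_mul, mul_one, mul_assoc]

set_option maxRecDepth 100000 in
theorem wr_f : Cfsg.Agent.Helper28.WordOf Cfsg.Agent.Helper28.C1680.gen
    ((Cfsg.Spor.Suz.b * Cfsg.Spor.Suz.c * Cfsg.Spor.Suz.d * Cfsg.Spor.Suz.c * Cfsg.Spor.Suz.d) ^ 5)
    [1, 2, 3, 2, 3, 1, 2, 3, 2, 3, 1, 2, 3, 2, 3, 1, 2, 3, 2, 3, 1, 2, 3, 2, 3] := by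
  intro K _ v hv
  simp only [map_mul, map_pow, map_inv, FreeGroup.lift_apply_of, mul_inv_rev, inv_pow,
    Cfsg.Agent.Helper28.inv_of_sq _ (hv _), List.map_cons, List.map_nil, List.prod_cons, List.prod_nil,
    Cfsg.Agent.Helper28.C1680.gen, pow_succ, pow_zero, one_mul, mul_one, mul_assoc]

theorem conj_f : (PresentedGroup.of Suz.Gen.f : Suz) * z * PresentedGroup.of Suz.Gen.f = z := by
  have h := Cfsg.Agent.Helper28.C1680.cert.word_eq inj1
    Cfsg.Agent.Helper28.SZL1.z5_l Cfsg.Agent.Helper28.SZL1.z5_r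
    Cfsg.Agent.Helper28.SZL1.eq_z5_let.1 Cfsg.Agent.Helper28.SZL1.eq_z5_let.2
    Cfsg.Agent.Helper28.SZL1.eq_z5_all
  have h1 := Cfsg.Agent.Helper28.C1680.cert.wordVal _ _ wl_f Cfsg.Agent.Helper28.SZL1.eq_z5_let.1
  have h2 := Cfsg.Agent.Helper28.C1680.cert.wordVal _ _ wr_f Cfsg.Agent.Helper28.SZL1.eq_z5_let.2
  have h3 := h1.symm.trans (h.trans h2)
  rw [map_mul, map_mul] at h3
  exact h3

set_option maxRecDepth 100000 in
theorem wl_g : Cfsg.Agent.Helper28.WordOf Cfsg.Agent.Helper28.C1680.gen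
    (Cfsg.Spor.Suz.g * (Cfsg.Spor.Suz.b * Cfsg.Spor.Suz.c * Cfsg.Spor.Suz.d * Cfsg.Spor.Suz.c * Cfsg.Spor.Suz.d) ^ 5 * Cfsg.Spor.Suz.g)
    [6, 1, 2, 3, 2, 3, 1, 2, 3, 2, 3, 1, 2, 3, 2, 3, 1, 2, 3, 2, 3, 1, 2, 3, 2, 3, 6] := by
  intro K _ v hv
  simp only [map_mul, map_pow, map_inv, FreeGroup.lift_apply_of, mul_inv_rev, inv_pow,
    Cfsg.Agent.Helper28.inv_of_sq _ (hv _), List.map_cons, List.map_nil, List.prod_cons, List.prod_nil,
    Cfsg.Agent.Helper28.C1680.gen, pow_succ, pow_zero, one_mul, mul_one, mul_assoc]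

set_option maxRecDepth 100000 in
theorem wr_g : Cfsg.Agent.Helper28.WordOf Cfsg.Agent.Helper28.C1680.gen
    ((Cfsg.Spor.Suz.b * Cfsg.Spor.Suz.c * Cfsg.Spor.Suz.d * Cfsg.Spor.Suz.c * Cfsg.Spor.Suz.d) ^ 5)
    [1, 2, 3, 2, 3, 1, 2, 3, 2, 3, 1, 2, 3, 2, 3, 1, 2, 3, 2, 3, 1, 2, 3, 2, 3] := by
  intro K _ v hv
  simp only [map_mul, map_pow, map_inv, FreeGroup.lift_apply_of, mul_inv_rev, inv_pow,
    Cfsg.Agent.Helper28.inv_of_sq _ (hv _), List.map_cons, List.map_nil, List.prod_cons, List.prod_nil,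
    Cfsg.Agent.Helper28.C1680.gen, pow_succ, pow_zero, one_mul, mul_one, mul_assoc]

theorem conj_g : (PresentedGroup.of Suz.Gen.g : Suz) * z * PresentedGroup.of Suz.Gen.g = z := by
  have h := Cfsg.Agent.Helper28.C1680.cert.word_eq inj1
    Cfsg.Agent.Helper28.SZL1.z6_l Cfsg.Agent.Helper28.SZL1.z6_r
    Cfsg.Agent.Helper28.SZL1.eq_z6_let.1 Cfsg.Agent.Helper28.SZL1.eq_z6_let.2
    Cfsg.Agent.Helper28.SZL1.eq_z6_all
  have h1 := Cfsg.Agent.Helper28.C1680.cert.wordVal _ _ wl_g Cfsg.Agent.Helper28.SZL1.eq_z6_let.1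
  have h2 := Cfsg.Agent.Helper28.C1680.cert.wordVal _ _ wr_g Cfsg.Agent.Helper28.SZL1.eq_z6_let.2
  have h3 := h1.symm.trans (h.trans h2)
  rw [map_mul, map_mul] at h3
  exact h3

theorem gen_norm (x : Suz.Gen)
    (h : (PresentedGroup.of x : Suz) * z * PresentedGroup.of x = z ∨
      (PresentedGroup.of x : Suz) * z * PresentedGroup.of x = z⁻¹) :
    (PresentedGroup.of x : Suz) * z * (PresentedGroup.of x : Suz)⁻¹ ∈ Subgroup.zpowers z ∧
      (PresentedGroup.of x : Suz)⁻¹ * z * (PresentedGroup.of x : Suz) ∈ Subgroup.zpowers z := by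
  have hx : (PresentedGroup.of x : Suz)⁻¹ = PresentedGroup.of x := inv_of_sq _ (sq x)
  rw [hx]
  rcases h with h | h <;> rw [h]
  · exact ⟨Subgroup.mem_zpowers z, Subgroup.mem_zpowers z⟩
  · exact ⟨Subgroup.inv_mem _ (Subgroup.mem_zpowers z), Subgroup.inv_mem _ (Subgroup.mem_zpowers z)⟩

theorem z_normal : ∀ h ∈ H2, ∀ y ∈ Subgroup.zpowers z, h * y * h⁻¹ ∈ Subgroup.zpowers z := by
  intro h hh
  unfold H2 at hh
  rw [MonoidHom.map_closure] at hh
  refine zpowers_normal_of_gens z _ ?_ h hh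
  rintro _ ⟨s, hs, rfl⟩
  simp only [Set.mem_insert_iff, Set.mem_singleton_iff] at hs
  rcases hs with rfl | rfl | rfl | rfl | rfl | rfl
  · exact gen_norm Suz.Gen.a (Or.inl conj_a)
  · exact gen_norm Suz.Gen.b (Or.inl conj_b)
  · exact gen_norm Suz.Gen.c (Or.inl conj_c)
  · exact gen_norm Suz.Gen.d (Or.inr conj_d)
  · exact gen_norm Suz.Gen.f (Or.inl conj_f)
  · exact gen_norm Suz.Gen.g (Or.inl conj_g)

/-! ### maximality of the point stabiliser -/

theorem maximal (L : Subgroup Suz) (hL : H2 ≤ L) : L = H2 ∨ L = ⊤ := by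
  obtain ⟨e, he, _⟩ := Cfsg.Agent.Helper28.C1681.cert.exists_equiv
  have o1 := Cfsg.Agent.Helper28.C1681.cert.orbit_cert e he 280 Cfsg.Agent.Helper28.SZO.ov1 Cfsg.Agent.Helper28.SZO.op1 Cfsg.Agent.Helper28.SZO.otp1 Cfsg.Agent.Helper28.SZO.otw1 (by decide) Cfsg.Agent.Helper28.SZO.orb1_all Cfsg.Agent.Helper28.SZO.ov1_lt
  have o2 := Cfsg.Agent.Helper28.C1681.cert.orbit_cert e he 486 Cfsg.Agent.Helper28.SZO.ov2 Cfsg.Agent.Helper28.SZO.op2 Cfsg.Agent.Helper28.SZO.otp2 Cfsg.Agent.Helper28.SZO.otw2 (by decide) Cfsg.Agent.Helper28.SZO.orb2_all Cfsg.Agent.Helper28.SZO.ov2_lt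
  have o3 := Cfsg.Agent.Helper28.C1681.cert.orbit_cert e he 8505 Cfsg.Agent.Helper28.SZO.ov3 Cfsg.Agent.Helper28.SZO.op3 Cfsg.Agent.Helper28.SZO.otp3 Cfsg.Agent.Helper28.SZO.otw3 (by decide) Cfsg.Agent.Helper28.SZO.orb3_all Cfsg.Agent.Helper28.SZO.ov3_lt
  have o4 := Cfsg.Agent.Helper28.C1681.cert.orbit_cert e he 13608 Cfsg.Agent.Helper28.SZO.ov4 Cfsg.Agent.Helper28.SZO.op4 Cfsg.Agent.Helper28.SZO.otp4 Cfsg.Agent.Helper28.SZO.otw4 (by decide) Cfsg.Agent.Helper28.SZO.orb4_all Cfsg.Agent.Helper28.SZO.ov4_lt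
  have hidx : H2.index = 22880 := Cfsg.Agent.Helper28.C1681.cert.index_eq
  have h1 := o1.1
  have h2 := o2.1
  have h3 := o3.1
  have h4 := o4.1
  refine maximal_of_orbits' H2
    ![e.symm ⟨Cfsg.Agent.Helper28.SZO.ov1 0, Cfsg.Agent.Helper28.SZO.ov1_lt⟩,
      e.symm ⟨Cfsg.Agent.Helper28.SZO.ov2 0, Cfsg.Agent.Helper28.SZO.ov2_lt⟩,
      e.symm ⟨Cfsg.Agent.Helper28.SZO.ov3 0, Cfsg.Agent.Helper28.SZO.ov3_lt⟩,
      e.symm ⟨Cfsg.Agent.Helper28.SZO.ov4 0, Cfsg.Agent.Helper28.SZO.ov4_lt⟩]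
    ![280, 486, 8505, 13608] ?_ ?_ ?_ ?_ ?_ L hL
  · intro i
    fin_cases i
    · exact h1
    · exact h2
    · exact h3
    · exact h4
  · decide
  · decide
  · rw [hidx, Fin.sum_univ_four]
    rfl
  · rw [hidx]
    decide

/-! ### simplicity -/

theorem core_trivial (N : Subgroup Suz) (hN : N.Normal) (hle : N ≤ H2) : N = ⊥ := by
  have h1 := Cfsg.Agent.Helper28.C1681.cert.normal_le_ker N hN hle
  rw [(MonoidHom.ker_eq_bot_iff _).mpr inj2] at h1
  exact le_bot_iff.mp h1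

theorem simple : IsSimpleGroup Suz := by
  have := nontrivial
  refine iwasawa_simple H2 (Subgroup.zpowers z) maximal z_normal
    (Subgroup.zpowers_isMulCommutative _) ?_ perfect core_trivial
  rw [eq_top_iff, ← normalClosure_z]
  apply Subgroup.normalClosure_mono
  intro y hy
  rw [Set.mem_singleton_iff.mp hy]
  exact Subgroup.mem_zpowers _

end Cfsg.Agent.Helper28.SZ
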